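import Mathlib

/-!
Power-torsion modules and flat base change.
-/

set_option autoImplicit false
universe u v

open scoped TensorProduct

namespace Groth.Agent.TorsBCLib

variable {R : Type u} [CommRing R] {M : Type v} [AddCommGroup M] [Module R M] (I : Ideal R)

theorem exists_killed {n : ℕ} : ∀ {m : M}, m ≠ 0 → (∀ a ∈ I ^ n, a • m = 0) →
    ∃ r : R, r • m ≠ 0 ∧ ∀ a ∈ I, a • (r • m) = 0 := by
  induction n with
  | zero => exact fun h h1 => absurd (by simpa using h1 1 (by simp)) h
  | succ n ih =>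
    intro m h h1
    by_cases hI : ∀ a ∈ I, a • m = 0
    · exact ⟨1, by simpa using h, fun a ha => by simpa using hI a ha⟩
    · push Not at hI
      obtain ⟨a, ha, ham⟩ := hI
      obtain ⟨r, hr, hr'⟩ := ih (m := a • m) ham fun b hb => by
        rw [smul_smul]; exact h1 _ (pow_succ I n ▸ Ideal.mul_mem_mul hb ha)
      exact ⟨r * a, by rwa [mul_smul], fun b hb => by rw [mul_smul r a m]; exact hr' b hb⟩

variable (S : Type u) [CommRing S] [Algebra R S]

theorem map_annihilator_eq_top [Module.Flat R S] {k : M} (h : (1 : S) ⊗ₜ[R] k = 0) :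
    Ideal.map (algebraMap R S) (LinearMap.ker (LinearMap.toSpanSingleton R M k)) = ⊤ := by
  set J := LinearMap.ker (LinearMap.toSpanSingleton R M k)
  have hinj : Function.Injective (J.liftQ (LinearMap.toSpanSingleton R M k) le_rfl) := by
    rw [← LinearMap.ker_eq_bot]; exact Submodule.ker_liftQ_eq_bot _ _ _ le_rfl
  have h2 : (1 : S) ⊗ₜ[R] (Ideal.Quotient.mk J (1 : R)) = 0 := by
    refine (injective_iff_map_eq_zero _).1 (Module.Flat.lTensor_preserves_injective_linearMap (M := S) _ hinj) _ ?_
    rw [LinearMap.lTensor_tmul]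
    show (1 : S) ⊗ₜ[R] LinearMap.toSpanSingleton R M k 1 = 0
    simpa using h
  have h3 := congrArg (Algebra.TensorProduct.quotIdealMapEquivTensorQuot S J).symm h2
  rw [map_zero, Algebra.TensorProduct.quotIdealMapEquivTensorQuot_symm_tmul, one_smul] at h3
  exact (Ideal.eq_top_iff_one _).2 (Ideal.Quotient.eq_zero_iff_mem.1 h3)

theorem one_tmul_ne_zero [Module.Flat R S] (hI : ∀ p : Ideal R, p.IsPrime → I ≤ p → Ideal.map (algebraMap R S) p ≠ ⊤)
    {k : M} (hk : k ≠ 0) (hIk : ∀ a ∈ I, a • k = 0) : (1 : S) ⊗ₜ[R] k ≠ 0 := fun h => by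
  have hJ : LinearMap.ker (LinearMap.toSpanSingleton R M k) ≠ ⊤ := fun hJ => hk (by
    have h1 : (1 : R) ∈ LinearMap.ker (LinearMap.toSpanSingleton R M k) := hJ ▸ Submodule.mem_top
    simpa using h1)
  obtain ⟨p, hp, hle⟩ := Ideal.exists_le_maximal _ hJ
  exact hI p hp.isPrime (le_trans (fun a ha => by simpa using hIk a ha) hle)
    (top_le_iff.1 (map_annihilator_eq_top S h ▸ Ideal.map_mono hle))

theorem mk_injective [Module.Flat R S] (hI : ∀ p : Ideal R, p.IsPrime → I ≤ p → Ideal.map (algebraMap R S) p ≠ ⊤)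
    (hM : ∀ m : M, ∃ n : ℕ, ∀ a ∈ I ^ n, a • m = 0) : Function.Injective (TensorProduct.mk R S M 1) := by
  refine (injective_iff_map_eq_zero _).2 fun m hm => by_contra fun hne => ?_
  obtain ⟨n, hn⟩ := hM m
  obtain ⟨r, hr, hr'⟩ := exists_killed I hne hn
  refine one_tmul_ne_zero I S hI hr hr' ?_
  rw [TensorProduct.tmul_smul, show (1 : S) ⊗ₜ[R] m = 0 from hm, smul_zero]

theorem mk_surjective (hs : ∀ s : S, ∃ r : R, s - algebraMap R S r ∈ I.map (algebraMap R S))
    (hM : ∀ m : M, ∃ n : ℕ, ∀ a ∈ I ^ n, a • m = 0) : Function.Surjective (TensorProduct.mk R S M 1) := by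
  have key : ∀ (n : ℕ) (m : M), (∀ a ∈ I ^ n, a • m = 0) → ∀ s : S, s ⊗ₜ[R] m ∈ LinearMap.range (TensorProduct.mk R S M 1) := by
    intro n
    induction n with
    | zero => intro m hm s; rw [show m = 0 by simpa using hm 1 (by simp), TensorProduct.tmul_zero]; exact zero_mem _
    | succ n ih =>
      intro m hm s
      obtain ⟨r, hr⟩ := hs s
      have hsplit : s ⊗ₜ[R] m = (algebraMap R S r) ⊗ₜ[R] m + (s - algebraMap R S r) ⊗ₜ[R] m := by
        rw [← TensorProduct.add_tmul, add_sub_cancel]
      rw [hsplit]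
      refine add_mem ⟨r • m, ?_⟩ ?_
      · rw [TensorProduct.mk_apply, TensorProduct.tmul_smul, TensorProduct.smul_tmul', Algebra.smul_def, mul_one]
      · generalize s - algebraMap R S r = t at hr ⊢
        clear hsplit
        suffices h : ∀ c : S, (c * t) ⊗ₜ[R] m ∈ LinearMap.range (TensorProduct.mk R S M 1) by
          simpa using h 1
        rw [Ideal.map, Ideal.span] at hr
        induction hr using Submodule.span_induction with
        | mem x hx =>
          obtain ⟨a, ha, rfl⟩ := hx
          intro c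
          rw [mul_comm, ← Algebra.smul_def, TensorProduct.smul_tmul]
          exact ih _ (fun b hb => by rw [smul_smul]; exact hm _ (pow_succ I n ▸ Ideal.mul_mem_mul hb ha)) _
        | zero => intro c; rw [mul_zero, TensorProduct.zero_tmul]; exact zero_mem _
        | add x y _ _ hx hy => intro c; rw [mul_add, TensorProduct.add_tmul]; exact add_mem (hx c) (hy c)
        | smul d x _ hx => intro c; rw [smul_eq_mul, ← mul_assoc]; exact hx _
  intro x
  refine LinearMap.mem_range.1 ?_
  induction x using TensorProduct.induction_on with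
  | zero => exact zero_mem _
  | tmul s m => obtain ⟨n, hn⟩ := hM m; exact key n m hn s
  | add x y hx hy => exact add_mem hx hy

end Groth.Agent.TorsBCLib
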