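import Mathlib

/-!
# Power torsion modules along a flat map inducing an isomorphism modulo the ideal
-/

set_option autoImplicit false
universe u

open TensorProduct

namespace Groth.Agent.TorsBCLib

variable {R S : Type u} [CommRing R] [CommRing S] [Algebra R S] [Module.Flat R S] {I : Ideal R}

/-- The unit of base change. -/
noncomputable abbrev unit (S : Type u) [CommRing S] [Algebra R S] (X : Type u) [AddCommGroup X] [Module R X] :
    X →ₗ[R] S ⊗[R] X := TensorProduct.mk R S X 1

theorem bij_killed (hq : Function.Bijective (algebraMap (R ⧸ I) (S ⧸ I.map (algebraMap R S)))) (X : Type u)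
    [AddCommGroup X] [Module R X] (hX : ∀ a ∈ I, ∀ x : X, a • x = 0) : Function.Bijective (unit (R := R) S X) := by
  let e : (R ⧸ I) ≃ₗ[R] S ⧸ I.map (algebraMap R S) :=
    LinearEquiv.ofBijective ({ toFun := algebraMap (R ⧸ I) (S ⧸ I.map (algebraMap R S))
                               map_add' := map_add _
                               map_smul' := fun r x => by
                                 obtain ⟨x, rfl⟩ := Ideal.Quotient.mk_surjective x
                                 rw [RingHom.id_apply, Algebra.smul_def, Algebra.smul_def, map_mul, ← IsScalarTower.algebraMap_apply] } : (R ⧸ I) →ₗ[R] S ⧸ I.map (algebraMap R S)) hq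
  let ψ : (R ⧸ I) →ₗ[R] X →ₗ[R] X := Submodule.liftQ I (LinearMap.lsmul R X) fun a ha => LinearMap.ext fun x => hX a ha x
  let ρ : S →ₗ[R] R ⧸ I := e.symm.toLinearMap.comp (Ideal.Quotient.mkₐ R (I.map (algebraMap R S))).toLinearMap
  let back : S ⊗[R] X →ₗ[R] X := TensorProduct.lift (ψ.comp ρ)
  have hρ : ρ 1 = Ideal.Quotient.mk I 1 := by
    show e.symm _ = _
    rw [LinearEquiv.symm_apply_eq]
    show Ideal.Quotient.mk _ (1 : S) = algebraMap (R ⧸ I) _ (Ideal.Quotient.mk I 1)
    simp
  have hleft : ∀ x, back (unit (R := R) S X x) = x := fun x => by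
    show ψ (ρ 1) x = x
    rw [hρ]
    exact one_smul R x
  refine ⟨Function.LeftInverse.injective hleft, fun z => ?_⟩
  induction z using TensorProduct.induction_on with
  | zero => exact ⟨0, map_zero _⟩
  | add a b ha hb =>
    obtain ⟨x, rfl⟩ := ha
    obtain ⟨y, rfl⟩ := hb
    exact ⟨x + y, map_add _ _ _⟩
  | tmul s x =>
    obtain ⟨r, hr⟩ := hq.2 (Ideal.Quotient.mk _ s)
    obtain ⟨r, rfl⟩ := Ideal.Quotient.mk_surjective r
    have h0 : s - algebraMap R S r ∈ I.map (algebraMap R S) := Ideal.Quotient.eq.mp hr.symm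
    refine ⟨r • x, ?_⟩
    have hkill : ∀ w ∈ I.map (algebraMap R S), w ⊗ₜ[R] x = (0 : S ⊗[R] X) := fun w hw => by
      induction hw using Submodule.span_induction with
      | mem w hw =>
        obtain ⟨a, ha, rfl⟩ := hw
        rw [Algebra.algebraMap_eq_smul_one, TensorProduct.smul_tmul, hX a ha, TensorProduct.tmul_zero]
      | zero => exact TensorProduct.zero_tmul _ _
      | add a b _ _ ha hb => rw [TensorProduct.add_tmul, ha, hb, add_zero]
      | smul c a _ ha => rw [← TensorProduct.smul_tmul', ha, smul_zero]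
    show (1 : S) ⊗ₜ[R] (r • x) = s ⊗ₜ[R] x
    rw [← TensorProduct.smul_tmul, ← Algebra.algebraMap_eq_smul_one, eq_comm, ← sub_eq_zero, ← TensorProduct.sub_tmul]
    exact hkill _ h0

theorem bij_killed_pow (hq : Function.Bijective (algebraMap (R ⧸ I) (S ⧸ I.map (algebraMap R S)))) :
    ∀ (n : ℕ) (X : Type u) [AddCommGroup X] [Module R X], (∀ a ∈ I ^ n, ∀ x : X, a • x = 0) →
      Function.Bijective (unit (R := R) S X) := by
  intro n
  induction n with
  | zero =>
    intro X _ _ hX
    exact bij_killed hq X fun a _ x => hX a (by simp) x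
  | succ n ih =>
    intro X _ _ hX
    let Y : Submodule R X := I • ⊤
    have hY : ∀ a ∈ I ^ n, ∀ y : Y, a • y = 0 := fun a ha ⟨y, hy⟩ => Subtype.ext (by
      show a • y = 0
      induction hy using Submodule.smul_induction_on' with
      | smul b hb z _ => rw [← mul_smul]; exact hX _ (pow_succ I n ▸ Ideal.mul_mem_mul ha hb) z
      | add p _ q _ hp hq => rw [smul_add, hp, hq, add_zero])
    have hQ : ∀ a ∈ I, ∀ z : X ⧸ Y, a • z = 0 := fun a ha z => by
      obtain ⟨z, rfl⟩ := Submodule.Quotient.mk_surjective Y z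
      exact (Submodule.Quotient.mk_eq_zero Y).mpr (Submodule.smul_mem_smul ha Submodule.mem_top)
    obtain ⟨i1, s1⟩ := ih Y hY
    obtain ⟨i3, s3⟩ := bij_killed hq (X ⧸ Y) hQ
    have hinj : Function.Injective (Y.subtype.lTensor S) :=
      Module.Flat.lTensor_preserves_injective_linearMap _ Y.injective_subtype
    refine ⟨(injective_iff_map_eq_zero _).mpr fun x hx => ?_, fun z => ?_⟩
    · have h3 : x ∈ Y := (Submodule.Quotient.mk_eq_zero Y).mp (i3 (by
        rw [map_zero]
        exact (congrArg (Y.mkQ.lTensor S) hx).trans (map_zero _)))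
      have h1 : (⟨x, h3⟩ : Y) = 0 := i1 (hinj (by rw [map_zero, map_zero]; exact hx))
      exact congrArg Subtype.val h1
    · obtain ⟨q, hq'⟩ := s3 (Y.mkQ.lTensor S z)
      obtain ⟨x, rfl⟩ := Submodule.Quotient.mk_surjective Y q
      obtain ⟨w, hw⟩ := ((lTensor_exact S (LinearMap.exact_subtype_mkQ Y) Y.mkQ_surjective) (z - unit (R := R) S X x)).mp (by
        rw [map_sub, sub_eq_zero, ← hq']; rfl)
      obtain ⟨y, rfl⟩ := s1 w
      refine ⟨x + y, ?_⟩
      rw [map_add, show unit (R := R) S X (y : X) = Y.subtype.lTensor S (unit (R := R) S Y y) from rfl, hw, add_sub_cancel]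

theorem bij_torsion (hq : Function.Bijective (algebraMap (R ⧸ I) (S ⧸ I.map (algebraMap R S)))) (X : Type u)
    [AddCommGroup X] [Module R X] (hX : ∀ x : X, ∃ n : ℕ, ∀ a ∈ I ^ n, a • x = 0) :
    Function.Bijective (unit (R := R) S X) := by
  have hcyc : ∀ x : X, ∀ z : S ⊗[R] (Submodule.span R {x}), ∃ y, unit (R := R) S (Submodule.span R {x}) y = z ∧
      ∀ y', unit (R := R) S (Submodule.span R {x}) y' = z → y' = y := fun x z => by
    obtain ⟨n, hn⟩ := hX x
    obtain ⟨hi, hs⟩ := bij_killed_pow (S := S) hq n (Submodule.span R {x}) fun a ha ⟨y, hy⟩ => Subtype.ext (by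
      obtain ⟨r, rfl⟩ := Submodule.mem_span_singleton.mp hy
      show a • r • x = 0
      rw [smul_comm, hn a ha, smul_zero])
    obtain ⟨y, hy⟩ := hs z
    exact ⟨y, hy, fun y' hy' => hi (hy'.trans hy.symm)⟩
  refine ⟨(injective_iff_map_eq_zero _).mpr fun x hx => ?_, fun z => ?_⟩
  · have hinj : Function.Injective ((Submodule.span R {x}).subtype.lTensor S) :=
      Module.Flat.lTensor_preserves_injective_linearMap _ (Submodule.injective_subtype _)
    let xx : Submodule.span R {x} := ⟨x, Submodule.mem_span_singleton_self x⟩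
    have h0 : unit (R := R) S (Submodule.span R {x}) xx = 0 := hinj (by rw [map_zero]; exact hx)
    obtain ⟨y, -, hy⟩ := hcyc x 0
    have h1 := hy xx h0
    have h2 := hy 0 (map_zero _)
    exact congrArg Subtype.val (h1.trans h2.symm)
  · induction z using TensorProduct.induction_on with
    | zero => exact ⟨0, map_zero _⟩
    | add a b ha hb =>
      obtain ⟨x, rfl⟩ := ha
      obtain ⟨y, rfl⟩ := hb
      exact ⟨x + y, map_add _ _ _⟩
    | tmul s x =>
      obtain ⟨y, hy, -⟩ := hcyc x (s ⊗ₜ ⟨x, Submodule.mem_span_singleton_self x⟩)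
      exact ⟨y, congrArg ((Submodule.span R {x}).subtype.lTensor S) hy⟩

/-- The power torsion submodule. -/
def tors (I : Ideal R) (N : Type u) [AddCommGroup N] [Module R N] : Submodule R N where
  carrier := {x | ∃ n : ℕ, ∀ a ∈ I ^ n, a • x = 0}
  add_mem' := fun {x y} ⟨n, hn⟩ ⟨m, hm⟩ => ⟨n + m, fun a ha => by
    rw [smul_add, hn a (Ideal.pow_le_pow_right (Nat.le_add_right n m) ha),
      hm a (Ideal.pow_le_pow_right (Nat.le_add_left m n) ha), add_zero]⟩
  zero_mem' := ⟨0, fun a _ => smul_zero a⟩
  smul_mem' := fun r x ⟨n, hn⟩ => ⟨n, fun a ha => by rw [smul_comm, hn a ha, smul_zero]⟩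

/-- Elements killed by a power of a finitely generated ideal come from the torsion submodule. -/
theorem mem_range_tors (hI : I.FG) (N : Type u) [AddCommGroup N] [Module R N] (n : ℕ) (z : S ⊗[R] N)
    (hz : ∀ a ∈ I ^ n, a • z = 0) : z ∈ LinearMap.range ((tors I N).subtype.lTensor S) := by
  classical
  obtain ⟨s, hs⟩ := hI.pow (n := n)
  let Φ : N →ₗ[R] (s → N) := LinearMap.pi fun a => LinearMap.lsmul R N a.1
  have h0 : Φ.lTensor S z = 0 := by
    apply (TensorProduct.piRight R R S fun _ : s => N).injective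
    funext a
    have : ∀ w : S ⊗[R] N, TensorProduct.piRight R R S (fun _ : s => N) (Φ.lTensor S w) a = a.1 • w := fun w => by
      induction w using TensorProduct.induction_on with
      | zero => simp
      | tmul b m => simp [Φ, TensorProduct.tmul_smul]
      | add p q hp hq => rw [map_add, map_add, Pi.add_apply, hp, hq, smul_add]
    rw [this, hz a.1 (hs ▸ Submodule.subset_span a.2), map_zero]
    rfl
  obtain ⟨w, rfl⟩ := ((Module.Flat.lTensor_exact S (LinearMap.exact_subtype_ker_map Φ)) z).mp h0
  have hle : LinearMap.ker Φ ≤ tors I N := fun x hx => ⟨n, fun a ha => by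
    rw [← hs] at ha
    induction ha using Submodule.span_induction with
    | mem a ha => exact congrFun (LinearMap.mem_ker.mp hx) ⟨a, ha⟩
    | zero => exact zero_smul R x
    | add p q _ _ hp hq => rw [add_smul, hp, hq, add_zero]
    | smul r p _ hp => rw [smul_assoc, hp, smul_zero]⟩
  exact ⟨(Submodule.inclusion hle).lTensor S w, by rw [← LinearMap.lTensor_comp_apply, Submodule.subtype_comp_inclusion]⟩

end Groth.Agent.TorsBCLib
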